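import Cfsg.Agent.S0806
import Cfsg.Agent.S2140
import Cfsg.Agent.S2141
import Cfsg.Agent.S0280
import Cfsg.Agent.S0283
import Cfsg.Agent.S0269
import Cfsg.Agent.S0270
import Cfsg.Agent.LieClassical.OrthFinite
import Cfsg.Agent.LieClassical.HermPerfect
import Cfsg.Agent.SignalizersComponents.SLQuasisimple
import Cfsg.Agent.SignalizersComponents.Components
import Cfsg.Agent.H212.BR.Gen_m3
import Cfsg.Agent.FastGrp
import Cfsg.Agent.Prune
set_option linter.all false
prune_inst 0x7f00000000000000000000000000000000000000000000000000000000000000000000000000000000000000000000000000000000000000000000000000000000000000000000000000000000000000003fffffffffffffffffffffffffffbeffbdffffffff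
open scoped Cfsg.Agent.FastGrp

/-!
# HUB BR, IDX: indices of proper subgroups of the quasisimple classical groups

* `qs_of` : quasisimple groups are `QS`; `quasi_sl`, `quasi_sl_two`, `quasi_su`, `quasi_sp`, `quasi_omega`;
* `idx_of_quot`, `idx_of_card`, `idx_of_hom` : lower bounds for the indices of the proper subgroups;
* `idx_sl`, `idx_sp`, `idx_omega` : `c * q < M.index`; `idx_sl_two` : `q < M.index`; `idx_su` : `c < M.index`.
-/

set_option autoImplicit false
set_option linter.unusedSectionVars false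

open Cfsg Subgroup

namespace Cfsg.Agent.H16.BR

open Cfsg.Agent.H883.BR

section gen

variable {G : Type*} [Group G]

theorem qs_of (hG : IsQuasisimple G) : QS G :=
  ⟨hG.1.commutator_eq_top, SignalizersComponents.Components.quasisimple_nontrivial hG, fun N hN =>
    (SignalizersComponents.Components.quasisimple_normal hG N hN).symm⟩

/-- proper subgroups of a perfect central extension -/
theorem idx_of_quot [Finite G] (hG : IsQuasisimple G) {B : ℕ}
    (hT : ∀ H : Subgroup (G ⧸ center G), H ≠ ⊤ → B < H.index) {M : Subgroup G} (hM : M ≠ ⊤) : B < M.index := by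
  have h1 : M.map (QuotientGroup.mk' (center G)) ≠ ⊤ := by
    intro h
    apply hM
    have h1 : M ⊔ center G = ⊤ := by
      have := congrArg (comap (QuotientGroup.mk' (center G))) h
      rwa [comap_map_eq, QuotientGroup.ker_mk', comap_top] at this
    have hn : M.Normal := by
      refine ⟨fun m hm g => ?_⟩
      have hg : g ∈ M ⊔ center G := by rw [h1]; exact mem_top g
      obtain ⟨a, ha, z, hz, rfl⟩ := Subgroup.mem_sup_of_normal_right.1 hg
      have hz' := Subgroup.mem_center_iff.1 hz m
      have e : a * z * m * (a * z)⁻¹ = a * m * a⁻¹ := by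
        rw [mul_assoc a z m, ← hz', mul_inv_rev]
        group
      rw [e]
      exact M.mul_mem (M.mul_mem ha hm) (M.inv_mem ha)
    have h2 := Subgroup.Normal.commutator_le_of_self_sup_commutative_eq_top h1 inferInstance
    rw [hG.1.commutator_eq_top] at h2
    exact top_le_iff.mp h2
  exact lt_of_lt_of_le (hT _ h1) (Nat.le_of_dvd (Nat.pos_of_ne_zero Subgroup.index_ne_zero_of_finite)
    (Subgroup.index_map_dvd _ (QuotientGroup.mk'_surjective _)))

/-- proper subgroups of large groups have large index -/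
theorem idx_of_card [Finite G] (hG : IsQuasisimple G) {B : ℕ} (hB : B.factorial < Nat.card (G ⧸ center G))
    {M : Subgroup G} (hM : M ≠ ⊤) : B < M.index := by
  refine idx_of_quot hG (fun H hH => ?_) hM
  have hs : IsSimpleGroup (G ⧸ center G) := hG.2
  by_contra hlt
  push Not at hlt
  have h1 : Function.Injective (MulAction.toPermHom (G ⧸ center G) ((G ⧸ center G) ⧸ H)) := by
    rw [← MonoidHom.ker_eq_bot_iff, ← Subgroup.normalCore_eq_ker]
    rcases hs.eq_bot_or_eq_top_of_normal H.normalCore inferInstance with h | h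
    · exact h
    · exact absurd (top_le_iff.1 (h ▸ Subgroup.normalCore_le H)) hH
  have h2 := Nat.card_le_card_of_injective _ h1
  have : Fintype ((G ⧸ center G) ⧸ H) := Fintype.ofFinite _
  rw [Nat.card_perm] at h2
  have h3 : (Nat.card ((G ⧸ center G) ⧸ H)).factorial ≤ B.factorial := Nat.factorial_le hlt
  omega

/-- a non-central image of a group whose proper subgroups have large index -/
theorem idx_of_hom [Finite G] (hG : IsQuasisimple G) {L : Type*} [Group L] (f : L →* G)
    (hf : ¬ f.range ≤ center G) {B : ℕ} (hL : ∀ H : Subgroup L, H ≠ ⊤ → B < H.index) {M : Subgroup G}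
    (hM : M ≠ ⊤) : B < M.index := by
  by_contra hlt
  push Not at hlt
  have h1 : f.range ≤ M.normalCore := by
    rintro _ ⟨l, rfl⟩ b
    have h2 : M.comap ((MulAut.conj b).toMonoidHom.comp f) = ⊤ := by
      by_contra hne
      have h3 := hL _ hne
      rw [Subgroup.index_comap] at h3
      have h4 : M.relIndex ((MulAut.conj b).toMonoidHom.comp f).range ≤ M.relIndex ⊤ :=
        Subgroup.relIndex_le_of_le_right le_top (by
          rw [Subgroup.relIndex_top_right]; exact Subgroup.index_ne_zero_of_finite)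
      rw [Subgroup.relIndex_top_right] at h4
      omega
    have h3 : l ∈ M.comap ((MulAut.conj b).toMonoidHom.comp f) := by rw [h2]; exact mem_top l
    exact h3
  rcases SignalizersComponents.Components.quasisimple_normal hG M.normalCore inferInstance with h | h
  · exact hM (top_le_iff.1 (h ▸ Subgroup.normalCore_le M))
  · exact hf (h1.trans h)

/-- the image of a perfect non-trivial group under an injective homomorphism is not central -/
theorem not_central {L : Type*} [Group L] [Nontrivial L] (hL : commutator L = ⊤) {f : L →* G}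
    (hf : Function.Injective f) : ¬ f.range ≤ center G := by
  intro h
  have h1 : commutator L ≤ f.ker := by
    rw [commutator_def, Subgroup.commutator_le]
    intro a _ b _
    rw [MonoidHom.mem_ker, map_commutatorElement, commutatorElement_eq_one_iff_mul_comm]
    exact (Subgroup.mem_center_iff.1 (h ⟨b, rfl⟩) (f a))
  rw [hL, (MonoidHom.ker_eq_bot_iff f).2 hf] at h1
  exact absurd (le_antisymm h1 bot_le) top_ne_bot

end gen

/-! ### `SL`, `SU`, `Sp` -/

section families

variable {F : Type*} [Field F] [Fintype F]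

theorem num {q n c : ℕ} (hn : 3 ≤ n) (hq : 2 ≤ q) (hc : c + 1 ≤ q) : c * q < (q ^ n - 1) / (q - 1) := by
  have h1 : q ^ 2 + q + 1 ≤ (q ^ n - 1) / (q - 1) := by
    rw [Nat.le_div_iff_mul_le (by omega)]
    have h2 : q ^ 3 ≤ q ^ n := Nat.pow_le_pow_right (by omega) hn
    obtain ⟨k, rfl⟩ : ∃ k, q = k + 1 := ⟨q - 1, by omega⟩
    have h3 : ((k + 1) ^ 2 + (k + 1) + 1) * (k + 1 - 1) + 1 = (k + 1) ^ 3 := by
      rw [Nat.add_sub_cancel]
      ring
    omega
  have h2 : c * q ≤ q * q := Nat.mul_le_mul_right q (by omega)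
  linarith only [h1, h2]

theorem quasi_sl {n : ℕ} (hn : 3 ≤ n) : IsQuasisimple (Matrix.SpecialLinearGroup (Fin n) F) :=
  SignalizersComponents.SLQuasisimple.isQuasisimple_of_three_le (by simpa only [_root_.Fintype.card_fin] using hn)

theorem quasi_sl_two (h4 : 4 ≤ Fintype.card F) : IsQuasisimple (Matrix.SpecialLinearGroup (Fin 2) F) :=
  SignalizersComponents.SLQuasisimple.isQuasisimple_two (by rwa [Nat.card_eq_fintype_card])

theorem idx_sl {n : ℕ} (hn : 3 ≤ n) {c : ℕ} (hc : c + 3 ≤ Fintype.card F)
    {M : Subgroup (Matrix.SpecialLinearGroup (Fin n) F)} (hM : M ≠ ⊤) : c * Fintype.card F < M.index := by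
  refine idx_of_quot (quasi_sl hn) (fun H hH => ?_) hM
  exact lt_of_lt_of_le (num hn (by omega) (by omega))
    ((Cfsg.Agent.S2140.result (F := F) rfl n hn (by omega)).1 H hH)

theorem idx_sl_two (hq : 12 ≤ Fintype.card F) {M : Subgroup (Matrix.SpecialLinearGroup (Fin 2) F)} (hM : M ≠ ⊤) :
    Fintype.card F < M.index := by
  refine idx_of_quot (quasi_sl_two (by omega)) (fun H hH => ?_) hM
  exact (Cfsg.Agent.S0806.result (F := F) rfl (by
    simp only [Finset.mem_insert, Finset.mem_singleton]
    omega)).1 H hH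

theorem quasi_su {q n : ℕ} (hF : Fintype.card F = q ^ 2) (hn : 3 ≤ n) (h : 3 ≤ q) : IsQuasisimple (SU n F q) :=
  ⟨⟨Cfsg.Agent.LieClassical.HermPerfect.commutator_SU_eq_top hF hn (by omega)⟩,
    Cfsg.Agent.S0283.result hF n hn (by omega)⟩

theorem quasi_sp {m : ℕ} (hm : 2 ≤ m) (hq : 3 ≤ Fintype.card F) :
    IsQuasisimple (Matrix.symplecticGroup (Fin m) F) :=
  ⟨⟨Cfsg.Agent.S0269.result m (by omega)⟩, Cfsg.Agent.S0270.result m hm (fun _ => hq)⟩

end families

/-! ### `Ω` -/

section hyp

open QuadraticMap Cfsg.Agent.LieClassical.OrthCore Matrix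

variable {F : Type*} [Field F] {V : Type*} [AddCommGroup V] [Module F V] {Q : QuadraticForm F V} {k : ℕ}

/-- families of hyperbolic pairs -/
structure HypF (Q : QuadraticForm F V) (e f : Fin k → V) : Prop where
  qe : ∀ i, Q (e i) = 0
  qf : ∀ i, Q (f i) = 0
  ee : ∀ i j, polar Q (e i) (e j) = 0
  ff : ∀ i j, polar Q (f i) (f j) = 0
  ef : ∀ i j, polar Q (e i) (f j) = if i = j then 1 else 0

theorem HypF.fe {e f : Fin k → V} (h : HypF Q e f) (i j : Fin k) :
    polar Q (f i) (e j) = if i = j then 1 else 0 := by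
  rw [polar_comm, h.ef]
  by_cases hij : i = j
  · rw [if_pos hij, if_pos hij.symm]
  · rw [if_neg hij, if_neg fun h => hij h.symm]

theorem polar_sum (v : V) (e : Fin k → V) (a : Fin k → F) :
    polar Q v (∑ i, a i • e i) = ∑ i, a i * polar Q v (e i) := by
  have h : ∀ w, polar Q v w = polarBilin Q v w := fun _ => rfl
  rw [h, map_sum]
  refine Finset.sum_congr rfl fun i _ => ?_
  rw [map_smul, smul_eq_mul]
  rfl

theorem exists_hypF [Finite F] (hQ : Nondeg Q) (k : ℕ) (hd : 2 * k + 1 ≤ Module.finrank F V) :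
    ∃ e f : Fin k → V, HypF Q e f := by
  induction k with
  | zero => exact ⟨Fin.elim0, Fin.elim0, ⟨fun i => i.elim0, fun i => i.elim0, fun i => i.elim0,
      fun i => i.elim0, fun i => i.elim0⟩⟩
  | succ k ih =>
    obtain ⟨e, f, h⟩ := ih (by omega)
    obtain ⟨w, hw0, hw, hwp⟩ := Cfsg.Agent.LieClassical.OrthFinite.exists_sing_perp (Q := Q) (Fin.append e f)
      (by omega)
    have hwe : ∀ i, polar Q (e i) w = 0 := fun i => by
      have := hwp (Fin.castAdd k i)
      rwa [Fin.append_left] at this
    have hwf : ∀ i, polar Q (f i) w = 0 := fun i => by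
      have := hwp (Fin.natAdd k i)
      rwa [Fin.append_right] at this
    obtain ⟨y0, hy0⟩ : ∃ y, polar Q w y = 1 := by
      by_contra hcon
      push Not at hcon
      apply hw0
      refine hQ w fun y => ?_
      by_contra hy
      refine hcon ((polar Q w y)⁻¹ • y) ?_
      rw [polar_smul_right, smul_eq_mul, inv_mul_cancel₀ hy]
    set y1 := y0 - ∑ i, polar Q (f i) y0 • e i - ∑ i, polar Q (e i) y0 • f i with hy1
    have hP : ∀ v, polar Q v y1 = polar Q v y0 - ∑ i, polar Q (f i) y0 * polar Q v (e i) -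
        ∑ i, polar Q (e i) y0 * polar Q v (f i) := by
      intro v
      rw [hy1, sub_eq_add_neg, sub_eq_add_neg, polar_add_right, polar_add_right, polar_neg_right,
        polar_neg_right, polar_sum, polar_sum]
      ring
    have h1 : polar Q w y1 = 1 := by
      rw [hP, hy0, Finset.sum_eq_zero, Finset.sum_eq_zero, sub_zero, sub_zero]
      · intro i _
        rw [polar_comm (⇑Q) w, hwf, mul_zero]
      · intro i _
        rw [polar_comm (⇑Q) w, hwe, mul_zero]
    have h2 : ∀ j, polar Q (e j) y1 = 0 := by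
      intro j
      rw [hP, Finset.sum_eq_zero fun i _ => by rw [h.ee, mul_zero], Finset.sum_eq_single j, h.ef, if_pos rfl,
        mul_one, sub_zero, sub_self]
      · intro i _ hij
        rw [h.ef, if_neg fun h => hij h.symm, mul_zero]
      · exact fun h => absurd (Finset.mem_univ _) h
    have h3 : ∀ j, polar Q (f j) y1 = 0 := by
      intro j
      have e1 : ∑ i, polar Q (f i) y0 * polar Q (f j) (e i) = polar Q (f j) y0 := by
        rw [Finset.sum_eq_single j, h.fe, if_pos rfl, mul_one]
        · intro i _ hij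
          rw [h.fe, if_neg fun h => hij h.symm, mul_zero]
        · exact fun h => absurd (Finset.mem_univ _) h
      have e2 : ∑ i, polar Q (e i) y0 * polar Q (f j) (f i) = 0 :=
        Finset.sum_eq_zero fun i _ => by rw [h.ff, mul_zero]
      rw [hP, e1, e2, sub_self, sub_zero]
    set y := y1 + (-Q y1) • w with hy
    have hww : polar Q w w = 0 := polar_self_of_sing hw
    have hPy : ∀ v, polar Q v y = polar Q v y1 + (-Q y1) * polar Q v w := by
      intro v
      rw [hy, polar_add_right, polar_smul_right, smul_eq_mul]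
    have hQy : Q y = 0 := by
      rw [hy, Q_add, QuadraticMap.map_smul, hw, polar_smul_right, polar_comm Q y1 w, h1]
      simp
    have hyy : polar Q y y = 0 := polar_self_of_sing hQy
    refine ⟨Fin.cons w e, Fin.cons y f, ?_, ?_, ?_, ?_, ?_⟩
    · intro i
      refine Fin.cases ?_ (fun i => ?_) i
      · exact hw
      · exact h.qe i
    · intro i
      refine Fin.cases ?_ (fun i => ?_) i
      · exact hQy
      · exact h.qf i
    · intro i j
      refine Fin.cases ?_ (fun i => ?_) i <;> refine Fin.cases ?_ (fun j => ?_) j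
      · exact hww
      · change polar Q w (e j) = 0
        rw [polar_comm, hwe]
      · exact hwe i
      · exact h.ee i j
    · intro i j
      refine Fin.cases ?_ (fun i => ?_) i <;> refine Fin.cases ?_ (fun j => ?_) j
      · exact hyy
      · change polar Q y (f j) = 0
        rw [polar_comm, hPy, h3, hwf, mul_zero, add_zero]
      · change polar Q (f i) y = 0
        rw [hPy, h3, hwf, mul_zero, add_zero]
      · exact h.ff i j
    · intro i j
      refine Fin.cases ?_ (fun i => ?_) i <;> refine Fin.cases ?_ (fun j => ?_) j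
      · change polar Q w y = _
        rw [hPy, h1, hww, mul_zero, add_zero, if_pos rfl]
      · change polar Q w (f j) = _
        rw [polar_comm, hwf, if_neg (Fin.succ_ne_zero j).symm]
      · change polar Q (e i) y = _
        rw [hPy, h2, hwe, mul_zero, add_zero, if_neg (Fin.succ_ne_zero i)]
      · change polar Q (e i) (f j) = _
        rw [h.ef]
        simp only [Fin.succ_inj]

/-- `x ↦ ∑ xᵢ eᵢ` -/
def lc (e : Fin k → V) (x : Fin k → F) : V := ∑ i, x i • e i

theorem lc_add (e : Fin k → V) (x y : Fin k → F) : lc e (x + y) = lc e x + lc e y := by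
  rw [lc, lc, lc, ← Finset.sum_add_distrib]
  exact Finset.sum_congr rfl fun i _ => by rw [Pi.add_apply, add_smul]

theorem lc_smul (e : Fin k → V) (c : F) (x : Fin k → F) : lc e (c • x) = c • lc e x := by
  rw [lc, lc, Finset.smul_sum]
  exact Finset.sum_congr rfl fun i _ => by rw [Pi.smul_apply, smul_eq_mul, mul_smul]

/-- coordinates -/
def al (Q : QuadraticForm F V) (f : Fin k → V) (v : V) : Fin k → F := fun i => polar Q (f i) v

theorem al_add (f : Fin k → V) (v w : V) : al Q f (v + w) = al Q f v + al Q f w := by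
  funext i
  exact polar_add_right Q _ _ _

theorem al_smul (f : Fin k → V) (c : F) (v : V) : al Q f (c • v) = c • al Q f v := by
  funext i
  exact polar_smul_right Q _ _ _

theorem polar_lc (v : V) (e : Fin k → V) (x : Fin k → F) : polar Q v (lc e x) = al Q e v ⬝ᵥ x := by
  rw [lc, polar_sum]
  refine Finset.sum_congr rfl fun i _ => ?_
  rw [mul_comm, al, polar_comm]

theorem Q_lc {e : Fin k → V} (hq : ∀ i, Q (e i) = 0) (hp : ∀ i j, polar Q (e i) (e j) = 0) (x : Fin k → F) :
    Q (lc e x) = 0 := by
  classical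
  have key : ∀ s : Finset (Fin k), Q (∑ i ∈ s, x i • e i) = 0 := by
    intro s
    induction s using Finset.induction_on with
    | empty => rw [Finset.sum_empty, QuadraticMap.map_zero]
    | insert i s hi ih =>
      rw [Finset.sum_insert hi, Q_add, ih, QuadraticMap.map_smul, hq, smul_zero, polar_smul_left]
      have h : ∀ w, polar Q (e i) w = polarBilin Q (e i) w := fun _ => rfl
      rw [h, map_sum, Finset.sum_eq_zero, smul_zero, add_zero, add_zero]
      intro j _
      rw [map_smul, ← h, hp, smul_zero]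
  exact key Finset.univ

section

variable {e f : Fin k → V} (h : HypF Q e f)
include h

theorem HypF.al_f_e (x : Fin k → F) : al Q f (lc e x) = x := by
  funext i
  rw [al, polar_lc, dotProduct, Finset.sum_eq_single i]
  · rw [al, h.ef, if_pos rfl, one_mul]
  · intro j _ hj
    rw [al, h.ef, if_neg hj, zero_mul]
  · exact fun h => absurd (Finset.mem_univ _) h

theorem HypF.al_e_f (x : Fin k → F) : al Q e (lc f x) = x := by
  funext i
  rw [al, polar_lc, dotProduct, Finset.sum_eq_single i]
  · rw [al, h.fe, if_pos rfl, one_mul]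
  · intro j _ hj
    rw [al, h.fe, if_neg hj, zero_mul]
  · exact fun h => absurd (Finset.mem_univ _) h

theorem HypF.al_e_e (x : Fin k → F) : al Q e (lc e x) = 0 := by
  funext i
  rw [al, polar_lc, dotProduct, Finset.sum_eq_zero, Pi.zero_apply]
  intro j _
  rw [al, h.ee, zero_mul]

theorem HypF.al_f_f (x : Fin k → F) : al Q f (lc f x) = 0 := by
  funext i
  rw [al, polar_lc, dotProduct, Finset.sum_eq_zero, Pi.zero_apply]
  intro j _
  rw [al, h.ff, zero_mul]

end

/-- the action of `A ∈ GL_k` on `⟨e⟩ ⊕ ⟨f⟩` (`B` the inverse transpose of `A`) -/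
def TT (Q : QuadraticForm F V) (e f : Fin k → V) (A B : Matrix (Fin k) (Fin k) F) : Module.End F V where
  toFun v := v + lc e ((A - 1) *ᵥ al Q f v) + lc f ((B - 1) *ᵥ al Q e v)
  map_add' v w := by
    rw [al_add, al_add, mulVec_add, mulVec_add, lc_add, lc_add]
    abel
  map_smul' c v := by
    rw [al_smul, al_smul, mulVec_smul, mulVec_smul, lc_smul, lc_smul, RingHom.id_apply, smul_add, smul_add]

theorem TT_apply (e f : Fin k → V) (A B : Matrix (Fin k) (Fin k) F) (v : V) :
    TT Q e f A B v = v + lc e ((A - 1) *ᵥ al Q f v) + lc f ((B - 1) *ᵥ al Q e v) := rfl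

section

variable {e f : Fin k → V} (h : HypF Q e f)
include h

theorem HypF.al_f_TT (A B : Matrix (Fin k) (Fin k) F) (v : V) : al Q f (TT Q e f A B v) = A *ᵥ al Q f v := by
  rw [TT_apply, al_add, al_add, h.al_f_e, h.al_f_f, add_zero, sub_mulVec, one_mulVec]
  abel

theorem HypF.al_e_TT (A B : Matrix (Fin k) (Fin k) F) (v : V) : al Q e (TT Q e f A B v) = B *ᵥ al Q e v := by
  rw [TT_apply, al_add, al_add, h.al_e_e, h.al_e_f, add_zero, sub_mulVec, one_mulVec]
  abel

theorem HypF.TT_mul (A B A' B' : Matrix (Fin k) (Fin k) F) :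
    TT Q e f (A * A') (B * B') = TT Q e f A B * TT Q e f A' B' := by
  refine LinearMap.ext fun v => ?_
  rw [Module.End.mul_apply, TT_apply e f A B, h.al_f_TT, h.al_e_TT, TT_apply, TT_apply, mulVec_mulVec,
    mulVec_mulVec, sub_mul, sub_mul, one_mul, one_mul]
  have h1 : (A * A' - 1) *ᵥ al Q f v = (A' - 1) *ᵥ al Q f v + (A * A' - A') *ᵥ al Q f v := by
    rw [← add_mulVec]
    congr 1
    abel
  have h2 : (B * B' - 1) *ᵥ al Q e v = (B' - 1) *ᵥ al Q e v + (B * B' - B') *ᵥ al Q e v := by
    rw [← add_mulVec]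
    congr 1
    abel
  rw [h1, h2, lc_add, lc_add]
  abel

theorem HypF.Q_TT {A B : Matrix (Fin k) (Fin k) F} (hAB : ∀ x y, (A *ᵥ x) ⬝ᵥ (B *ᵥ y) = x ⬝ᵥ y) (v : V) :
    Q (TT Q e f A B v) = Q v := by
  rw [TT_apply]
  set a := (A - 1) *ᵥ al Q f v with ha
  set b := (B - 1) *ᵥ al Q e v with hb
  have h1 : A *ᵥ al Q f v = al Q f v + a := by
    rw [ha, sub_mulVec, one_mulVec]
    abel
  have h2 : B *ᵥ al Q e v = al Q e v + b := by
    rw [hb, sub_mulVec, one_mulVec]
    abel
  have h3 := hAB (al Q f v) (al Q e v)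
  rw [h1, h2, add_dotProduct, dotProduct_add, dotProduct_add] at h3
  rw [Q_add, Q_add, Q_lc h.qe h.ee, Q_lc h.qf h.ff, polar_lc, polar_lc, al_add, h.al_f_e, add_dotProduct,
    dotProduct_comm (al Q e v) a]
  linear_combination h3

end

theorem TT_one (e f : Fin k → V) : TT Q e f 1 1 = 1 := by
  refine LinearMap.ext fun v => ?_
  rw [TT_apply, sub_self, zero_mulVec, zero_mulVec]
  have h0 : ∀ e : Fin k → V, lc e (0 : Fin k → F) = 0 := fun e => by
    rw [lc, Finset.sum_eq_zero]
    intro i _
    rw [Pi.zero_apply, zero_smul]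
  rw [h0, h0, add_zero, add_zero, Module.End.one_apply]

/-- the matrix of an element of `SL_k` -/
def mx (A : _root_.Matrix.SpecialLinearGroup (Fin k) F) : Matrix (Fin k) (Fin k) F := ↑A

theorem mx_mul (A B : _root_.Matrix.SpecialLinearGroup (Fin k) F) : mx (A * B) = mx A * mx B :=
  Matrix.SpecialLinearGroup.coe_mul A B

theorem mx_one : mx (1 : _root_.Matrix.SpecialLinearGroup (Fin k) F) = 1 :=
  Matrix.SpecialLinearGroup.coe_one

theorem dot_inv (A : _root_.Matrix.SpecialLinearGroup (Fin k) F) (x y : Fin k → F) :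
    (mx A *ᵥ x) ⬝ᵥ ((mx A⁻¹)ᵀ *ᵥ y) = x ⬝ᵥ y := by
  rw [dotProduct_mulVec, vecMul_transpose, mulVec_mulVec, ← mx_mul, inv_mul_cancel, mx_one, one_mulVec]

/-- the representation of `SL_k(F)` on `V` -/
def HypF.rep {e f : Fin k → V} (h : HypF Q e f) : _root_.Matrix.SpecialLinearGroup (Fin k) F →* Module.End F V where
  toFun A := TT Q e f (mx A) (mx A⁻¹)ᵀ
  map_one' := by
    rw [inv_one, mx_one, transpose_one, TT_one]
  map_mul' A B := by
    rw [← h.TT_mul, _root_.mul_inv_rev, mx_mul, mx_mul, transpose_mul]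

/-- **`SL_k(F) → O(Q)`** -/
def HypF.toO {e f : Fin k → V} (h : HypF Q e f) : _root_.Matrix.SpecialLinearGroup (Fin k) F →* O Q where
  toFun A := ⟨LinearEquiv.ofLinearMap (h.rep A) (h.rep A⁻¹)
    (by
      change h.rep A * h.rep A⁻¹ = 1
      rw [← map_mul, mul_inv_cancel, map_one])
    (by
      change h.rep A⁻¹ * h.rep A = 1
      rw [← map_mul, inv_mul_cancel, map_one]), fun v => h.Q_TT (dot_inv A) v⟩
  map_one' := by
    apply Subtype.ext
    apply LinearEquiv.ext
    intro v
    change h.rep 1 v = v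
    rw [map_one, Module.End.one_apply]
  map_mul' A B := by
    apply Subtype.ext
    apply LinearEquiv.ext
    intro v
    change h.rep (A * B) v = h.rep A (h.rep B v)
    rw [map_mul, Module.End.mul_apply]

theorem HypF.toO_injective {e f : Fin k → V} (h : HypF Q e f) : Function.Injective h.toO := by
  intro A B hAB
  have h1 : ∀ v, TT Q e f (mx A) (mx A⁻¹)ᵀ v = TT Q e f (mx B) (mx B⁻¹)ᵀ v := fun v =>
    LinearEquiv.congr_fun (congrArg Subtype.val hAB) v
  apply Subtype.ext
  have h2 : (mx A).mulVec = (mx B).mulVec := by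
    funext x
    have h3 := congrArg (al Q f) (h1 (lc e x))
    rwa [h.al_f_TT, h.al_f_TT, h.al_f_e] at h3
  exact Matrix.mulVec_injective h2

end hyp

section omega

open QuadraticMap Cfsg.Agent.LieClassical.OrthCore Cfsg.Agent.LieClassical.OrthTrans
  Cfsg.Agent.LieClassical.OrthFinite Cfsg.Agent.LieClassical.OrthSimple Matrix

variable {F : Type*} [Field F] {ι : Type} [Fintype ι] [DecidableEq ι] {Q : QuadraticForm F (ι → F)}

/-- `Ω(Q)` is quasisimple in dimension at least five -/
theorem quasi_omega [Finite F] (hQ : ∀ v, (∀ w, polar Q v w = 0) → v = 0) (h5 : 5 ≤ Fintype.card ι) :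
    IsQuasisimple (Omega F (fun v : ι → F => Q v)) := by
  have hG : Good Q := good_of_finite hQ (by rwa [Module.finrank_fintype_fun_eq_card])
  have hE : IsQuasisimple (E Q) := ⟨Subgroup.isPerfect_iff.mpr hG.E_perfect, good_isSimpleGroup hG⟩
  exact SignalizersComponents.Components.isQuasisimple_of_mulEquiv
    ((omegaEquiv Q).trans (MulEquiv.subgroupCongr hG.commutator_eq_E)).symm hE

/-- `SL_3(F) ≤ Ω(Q)` in dimension at least seven -/
theorem exists_sl_three [Finite F] (hQ : ∀ v, (∀ w, polar Q v w = 0) → v = 0) (h7 : 7 ≤ Fintype.card ι) :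
    ∃ f : _root_.Matrix.SpecialLinearGroup (Fin 3) F →* Omega F (fun v : ι → F => Q v), Function.Injective f := by
  obtain ⟨e, f, h⟩ := exists_hypF (Q := Q) hQ 3 (by rwa [Module.finrank_fintype_fun_eq_card])
  let g : _root_.Matrix.SpecialLinearGroup (Fin 3) F →* Cfsg.isometryGroup F ⇑Q :=
    (isometryEquiv Q).symm.toMonoidHom.comp h.toO
  have hg : Function.Injective g := (isometryEquiv Q).symm.injective.comp h.toO_injective
  have hmem : ∀ x, g x ∈ Omega F ⇑Q := by
    intro x
    have h1 : x ∈ _root_.commutator (_root_.Matrix.SpecialLinearGroup (Fin 3) F) := by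
      rw [Cfsg.Agent.LieClassical.SLGen.commutator_eq_top (by simp)]
      exact Subgroup.mem_top x
    have h2 : g x ∈ (_root_.commutator (_root_.Matrix.SpecialLinearGroup (Fin 3) F)).map g := ⟨x, h1, rfl⟩
    have h3 : (_root_.commutator (_root_.Matrix.SpecialLinearGroup (Fin 3) F)).map g ≤ _root_.commutator (Cfsg.isometryGroup F ⇑Q) := by
      rw [commutator_def, commutator_def, Subgroup.map_commutator]
      exact Subgroup.commutator_mono le_top le_top
    exact h3 h2
  exact ⟨g.codRestrict _ hmem, fun x y hxy => hg (congrArg Subtype.val hxy)⟩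

/-- **Indices in `Ω_n(q)`, `n ≥ 7`** -/
theorem idx_omega [Fintype F] (hQ : ∀ v, (∀ w, polar Q v w = 0) → v = 0) (h7 : 7 ≤ Fintype.card ι) {c : ℕ}
    (hc : c + 3 ≤ Fintype.card F) {M : Subgroup (Omega F (fun v : ι → F => Q v))} (hM : M ≠ ⊤) :
    c * Fintype.card F < M.index := by
  obtain ⟨f, hf⟩ := exists_sl_three hQ h7
  have hs : IsQuasisimple (_root_.Matrix.SpecialLinearGroup (Fin 3) F) := quasi_sl (le_refl 3)
  have hnt := SignalizersComponents.Components.quasisimple_nontrivial hs
  exact idx_of_hom (quasi_omega hQ (by omega)) f (not_central hs.1.commutator_eq_top hf)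
    (fun H hH => idx_sl (le_refl 3) hc hH) hM

end omega

end Cfsg.Agent.H16.BR

private theorem dce_cf1f87f16a4d : _root_.True := by
  try have : _root_.True := by simp only [_root_.Cfsg.Agent.H16.BR.lc.eq_1]
  try have : _root_.True := by simp only [_root_.Cfsg.Agent.H16.BR.al.eq_1]
  exact _root_.True.intro
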